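/-
The character degree graph of a solvable group.

* `degree_one_of_trivial`   : trivial on the derived subgroup means linear
* `reachable_of_dvd`        : two primes dividing one degree are connected
* `card_components_le_two`  : at most two components for solvable groups
* `card_degreePrimes_le_two`: at most two primes when there are no edges
* `card_charDegrees_le_three`: prime nonlinear degrees and solvable give at most three degrees
-/
import Cfsg.Agent.Lib.CharApp.DegreeSets
import Cfsg.Agent.Lib.Codegree.Basic
import Cfsg.Agent.S4776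

set_option autoImplicit false
set_option linter.style.haveILetI false

namespace Cfsg.Agent.DegreeGraph

open Cfsg Cfsg.Agent.Char

universe u
variable {G : Type u} [Group G] [Finite G]

theorem degree_one_of_trivial (χ : IrrCharacter G)
    (h : ∀ x ∈ commutator G, (χ : G → ℂ) x = (χ : G → ℂ) 1) : charDegree (χ : G → ℂ) = 1 := by
  haveI := Fintype.ofFinite G
  obtain ⟨ψ, hψ⟩ := Codegree.exists_quot χ (commutator G) fun x hx => h x hx
  have h1 := apply_one_eq_one_of_comm (fun a b => mul_comm (G := Abelianization G) a b) ψ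
  replace h1 : (χ : G → ℂ) 1 = 1 := (hψ 1).symm.trans h1
  rw [CharApp.DegreeSets.apply_one χ.2] at h1
  exact_mod_cast h1

theorem mem_relCharDegrees {d : ℕ} (hd : d ∈ charDegrees G) (h1 : d ≠ 1) :
    d ∈ relCharDegrees (commutator G) := by
  obtain ⟨χ, rfl⟩ := hd
  by_contra hno
  exact h1 (degree_one_of_trivial χ fun x hx => by
    by_contra hne; exact hno ⟨χ, ⟨x, hx, hne⟩, rfl⟩)

theorem of_mem_relCharDegrees {d : ℕ} (hd : d ∈ relCharDegrees (commutator G)) :
    d ∈ charDegrees G ∧ d ≠ 1 := by
  obtain ⟨χ, ⟨x, hx, hne⟩, rfl⟩ := hd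
  exact ⟨⟨χ, rfl⟩, fun h => hne (CharApp.DegreeSets.apply_commutator_of_linear χ.2 h hx)⟩

theorem reachable_of_dvd {p q : ℕ} (hp : p ∈ degreePrimes G) (hq : q ∈ degreePrimes G) {d : ℕ}
    (hd : d ∈ charDegrees G) (hpd : p ∣ d) (hqd : q ∣ d) :
    ((degreeGraph G).induce (degreePrimes G)).Reachable ⟨p, hp⟩ ⟨q, hq⟩ := by
  by_cases h : p = q
  · subst h; exact SimpleGraph.Reachable.refl _
  · exact SimpleGraph.Adj.reachable (show (degreeGraph G).Adj p q from
      ⟨h, hp.1, hq.1, d, hd, ((Nat.coprime_primes hp.1 hq.1).2 h).mul_dvd_of_dvd_of_dvd hpd hqd⟩)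

theorem card_components_le_two [hs : Group.IsSolvable G] :
    Nat.card ((degreeGraph G).induce (degreePrimes G)).ConnectedComponent ≤ 2 := by
  classical
  by_cases hab : commutator G = ⊥
  · have : IsEmpty ↥(degreePrimes G) := ⟨fun ⟨p, hp, d, ⟨χ, hd⟩, hpd⟩ => by
      have h1 := degree_one_of_trivial χ fun x hx => by
        rw [hab, Subgroup.mem_bot] at hx; rw [hx]
      rw [h1] at hd
      exact hp.ne_one (Nat.dvd_one.1 (hd ▸ hpd))⟩
    haveI : IsEmpty ((degreeGraph G).induce (degreePrimes G)).ConnectedComponent :=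
      ⟨fun C => C.ind fun v => this.false v⟩
    simp
  · have hlt : ⁅commutator G, commutator G⁆ < commutator G :=
      lt_of_le_of_ne (Subgroup.commutator_le_left _ _) fun heq => hab (by
        obtain ⟨n, hn⟩ := hs.solvable
        have hall : ∀ k, commutator G ≤ derivedSeries G k := by
          intro k
          induction k with
          | zero => rw [derivedSeries_zero]; exact le_top
          | succ k ih => rw [derivedSeries_succ, ← heq]; exact Subgroup.commutator_mono ih ih
        exact le_bot_iff.1 (hn ▸ hall n))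
    refine le_trans ?_ (S4776.result (commutator G) hlt le_rfl).1
    have hmem : ∀ d : ↥(relCharDegrees (commutator G)), (d : ℕ).minFac ∈ degreePrimes G := fun d =>
      ⟨Nat.minFac_prime (of_mem_relCharDegrees d.2).2, d, (of_mem_relCharDegrees d.2).1,
        Nat.minFac_dvd _⟩
    let f : ↥(relCharDegrees (commutator G)) →
        ((degreeGraph G).induce (degreePrimes G)).ConnectedComponent := fun d =>
      ((degreeGraph G).induce (degreePrimes G)).connectedComponentMk ⟨_, hmem d⟩
    have hf : ∀ a b, (commonDivisorGraph.induce (relCharDegrees (commutator G))).Reachable a b →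
        f a = f b := by
      intro a b hab'
      obtain ⟨w⟩ := hab'
      induction w with
      | nil => rfl
      | @cons a b c h _ ih =>
        refine Eq.trans ?_ ih
        obtain ⟨-, hg⟩ := (show commonDivisorGraph.Adj (a : ℕ) b from h)
        obtain ⟨r, hr, hrd⟩ := Nat.exists_prime_and_dvd hg.ne'
        have hra : r ∣ (a : ℕ) := hrd.trans (Nat.gcd_dvd_left _ _)
        have hrb : r ∣ (b : ℕ) := hrd.trans (Nat.gcd_dvd_right _ _)
        have hr' : r ∈ degreePrimes G := ⟨hr, a, (of_mem_relCharDegrees a.2).1, hra⟩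
        exact SimpleGraph.ConnectedComponent.sound
          ((reachable_of_dvd (hmem a) hr' (of_mem_relCharDegrees a.2).1 (Nat.minFac_dvd _) hra).trans
            (reachable_of_dvd hr' (hmem b) (of_mem_relCharDegrees b.2).1 hrb (Nat.minFac_dvd _)))
    haveI : Finite (commonDivisorGraph.induce (relCharDegrees (commutator G))).ConnectedComponent := by
      haveI : Finite ↥(relCharDegrees (commutator G)) := by
        haveI := Fintype.ofFinite G
        refine Set.Finite.to_subtype ((Set.finite_range fun χ : IrrCharacter G =>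
          charDegree (χ : G → ℂ)).subset ?_)
        rintro d ⟨χ, -, rfl⟩
        exact ⟨χ, rfl⟩
      exact Quot.finite _
    refine Nat.card_le_card_of_surjective
      (SimpleGraph.ConnectedComponent.lift f fun a b w _ => hf a b w.reachable) ?_
    intro C
    induction C using SimpleGraph.ConnectedComponent.ind with
    | _ v =>
      obtain ⟨p, hp⟩ := v
      obtain ⟨d, hd, hpd⟩ := hp.2
      have hd1 : d ≠ 1 := fun h => hp.1.ne_one (Nat.dvd_one.1 (h ▸ hpd))
      refine ⟨SimpleGraph.connectedComponentMk _ ⟨d, mem_relCharDegrees hd hd1⟩, ?_⟩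
      rw [SimpleGraph.ConnectedComponent.lift_mk]
      exact SimpleGraph.ConnectedComponent.sound
        (reachable_of_dvd _ hp hd (Nat.minFac_dvd _) hpd)

theorem card_degreePrimes_le_two [Group.IsSolvable G]
    (h : ∀ p q, ¬ (degreeGraph G).Adj p q) : Nat.card ↥(degreePrimes G) ≤ 2 := by
  refine le_trans (le_of_eq ?_) (card_components_le_two (G := G))
  refine Nat.card_eq_of_bijective
    ((degreeGraph G).induce (degreePrimes G)).connectedComponentMk ⟨fun a b hab => ?_, ?_⟩
  · obtain ⟨w⟩ := SimpleGraph.ConnectedComponent.exact hab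
    cases w with
    | nil => rfl
    | cons hadj _ => exact absurd hadj (h _ _)
  · intro C
    induction C using SimpleGraph.ConnectedComponent.ind with
    | _ v => exact ⟨v, rfl⟩

end Cfsg.Agent.DegreeGraph

namespace Cfsg.Agent.DegreeGraph

open Cfsg

universe u
variable {G : Type u} [Group G] [Finite G]

/-- A solvable group with prime nonlinear degrees has at most three degrees. -/
theorem card_charDegrees_le_three [Group.IsSolvable G]
    (hprime : ∀ d ∈ charDegrees G, d = 1 ∨ d.Prime) : Nat.card ↥(charDegrees G) ≤ 3 := by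
  haveI := Fintype.ofFinite G
  have hno : ∀ p q, ¬ (degreeGraph G).Adj p q := by
    rintro p q ⟨hne, hp, hq, d, hd, hdvd⟩
    rcases hprime d hd with rfl | hd'
    · exact hp.ne_one (Nat.dvd_one.1 ((dvd_mul_right p q).trans hdvd))
    · exact hne (((Nat.prime_dvd_prime_iff_eq hp hd').1 ((dvd_mul_right p q).trans hdvd)).trans
        ((Nat.prime_dvd_prime_iff_eq hq hd').1 ((dvd_mul_left q p).trans hdvd)).symm)
  have h := card_degreePrimes_le_two hno
  have hsub : charDegrees G ⊆ insert 1 (degreePrimes G) := fun d hd => (hprime d hd).elim Or.inl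
    fun hd' => Or.inr ⟨hd', d, hd, dvd_rfl⟩
  have hfin : (degreePrimes G).Finite := by
    refine (Set.finite_Iic (Nat.card G)).subset ?_
    rintro p ⟨-, d, ⟨χ, rfl⟩, hpd⟩
    exact Nat.le_of_dvd Nat.card_pos (hpd.trans (Codegree.deg_dvd_card χ))
  rw [Nat.card_coe_set_eq] at h ⊢
  exact le_trans (Set.ncard_le_ncard hsub (hfin.insert 1))
    (le_trans (Set.ncard_insert_le _ _) (by omega))

end Cfsg.Agent.DegreeGraph
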